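import Groth.Agent.L15.Ref.Reflexive
import Groth.Agent.L21.Mod.Locality
import Mathlib.LinearAlgebra.Dual.Lemmas

/-!
Reflexivity of stalks along restriction to open subschemes and along morphisms which are isomorphisms there.
-/

set_option autoImplicit false
set_option linter.style.haveILetI false
set_option backward.isDefEq.respectTransparency false
set_option backward.isDefEq.respectTransparency.types false

universe u

open CategoryTheory AlgebraicGeometry TopologicalSpace Opposite

noncomputable section

namespace Groth.L07.RefExtend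

section Algebra

variable {R S M N : Type*} [CommRing R] [CommRing S] [AddCommGroup M] [Module R M] [AddCommGroup N] [Module S N]
  (σ : R ≃+* S) (e : M ≃+ N) (he : ∀ r m, e (r • m) = σ r • e m)

include he in
/-- Reflexivity is preserved by semilinear bijections over an isomorphism of rings. -/
theorem isReflexive_of_semilinear [Module.IsReflexive R M] : Module.IsReflexive S N := by
  have he' : ∀ s n, e.symm (s • n) = σ.symm s • e.symm n := fun s n => by
    apply e.injective
    rw [he, AddEquiv.apply_symm_apply, RingEquiv.apply_symm_apply, AddEquiv.apply_symm_apply]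
  let D : Module.Dual R M → Module.Dual S N := fun f =>
    { toFun := fun n => σ (f (e.symm n))
      map_add' := fun a b => by rw [map_add, map_add, map_add]
      map_smul' := fun s a => by
        rw [he', map_smul, smul_eq_mul, map_mul, RingEquiv.apply_symm_apply]
        rfl }
  let D' : Module.Dual S N → Module.Dual R M := fun g =>
    { toFun := fun m => σ.symm (g (e m))
      map_add' := fun a b => by rw [map_add, map_add, map_add]
      map_smul' := fun r a => by
        rw [he, map_smul, smul_eq_mul, map_mul, RingEquiv.symm_apply_apply]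
        rfl }
  have hD : ∀ g, D (D' g) = g := fun g => LinearMap.ext fun n => by
    show σ (σ.symm (g (e (e.symm n)))) = g n
    rw [RingEquiv.apply_symm_apply, AddEquiv.apply_symm_apply]
  constructor
  refine ⟨fun a b h => ?_, fun Φ => ?_⟩
  · apply e.symm.injective
    apply (Module.bijective_dual_eval R M).1
    refine LinearMap.ext fun f => σ.injective ?_
    exact LinearMap.congr_fun h (D f)
  · let Φ' : Module.Dual R (Module.Dual R M) :=
      { toFun := fun f => σ.symm (Φ (D f))
        map_add' := fun a b => by
          rw [← map_add, ← map_add]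
          exact congrArg (fun g => σ.symm (Φ g)) (LinearMap.ext fun n => map_add σ _ _)
        map_smul' := fun r a => by
          have : D (r • a) = σ r • D a := LinearMap.ext fun n => map_mul σ _ _
          rw [this, map_smul, smul_eq_mul, map_mul, RingEquiv.symm_apply_apply]
          rfl }
    obtain ⟨m, hm⟩ := (Module.bijective_dual_eval R M).2 Φ'
    refine ⟨e m, LinearMap.ext fun g => ?_⟩
    have h1 := congrArg σ (LinearMap.congr_fun hm (D' g))
    change σ (σ.symm (g (e m))) = σ (σ.symm (Φ (D (D' g)))) at h1
    rw [RingEquiv.apply_symm_apply, RingEquiv.apply_symm_apply, hD] at h1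
    exact h1

end Algebra

variable {X Y : Scheme.{u}}

open Groth.L18.Frame (rs rs_rs)

/-- The local rings of an open subscheme. -/
def stalkEquiv (j : Y ⟶ X) [IsOpenImmersion j] (y : Y) : X.presheaf.stalk (j y) ≃+* Y.presheaf.stalk y :=
  (asIso (j.stalkMap y)).commRingCatIsoToRingEquiv

/-- The stalks of the restriction to an open subscheme. -/
def restrictStalkEquiv (j : Y ⟶ X) [IsOpenImmersion j] (M : X.Modules) (y : Y) :
    (M.restrict j).presheaf.stalk y ≃+ M.presheaf.stalk (j y) :=
  ((Scheme.Modules.restrictStalkNatIso j y).app M).addCommGroupIsoToAddEquiv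

theorem restrictStalk_smul (j : Y ⟶ X) [IsOpenImmersion j] (M : X.Modules) (y : Y) (r : X.presheaf.stalk (j y))
    (v : (M.restrict j).presheaf.stalk y) :
    restrictStalkEquiv j M y (stalkEquiv j y r • v) =
      r • restrictStalkEquiv j M y v := by
  obtain ⟨W, hyW, w, rfl⟩ := TopCat.Presheaf.exists_germ_eq (F := (M.restrict j).presheaf) v
  obtain ⟨O, hyO, s, rfl⟩ := TopCat.Presheaf.exists_germ_eq (F := X.presheaf) r
  let W' : Y.Opens := W ⊓ j ⁻¹ᵁ O
  have hy' : y ∈ W' := ⟨hyW, hyO⟩
  let a : Γ(Y, W') := Y.presheaf.map (homOfLE (inf_le_right : W' ≤ j ⁻¹ᵁ O)).op (j.app O s)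
  have hle : j ''ᵁ W' ≤ O := (j.image_mono inf_le_right).trans (j.image_preimage_le O)
  have ha : (j.appIso W').inv a = X.presheaf.map (homOfLE hle).op s := by
    apply (ConcreteCategory.bijective_of_isIso (j.appIso W').hom).1
    rw [Iso.inv_hom_id_apply, Scheme.Hom.appIso_hom', Scheme.Hom.appLE]
    show a = (X.presheaf.map _ ≫ j.app _ ≫ Y.presheaf.map _) s
    rw [Scheme.Hom.naturality_assoc, ← Functor.map_comp]
    rfl
  rw [stalkEquiv]
  show restrictStalkEquiv j M y
    (j.stalkMap y (X.presheaf.germ O (j y) hyO s) • _) = _
  rw [Scheme.Hom.germ_stalkMap_apply, ← TopCat.Presheaf.germ_res_apply Y.presheaf (homOfLE inf_le_right) y hy',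
    ← Groth.L20.ModStalk.germ_rs (M.restrict j) (inf_le_left : W' ≤ W) hy' w, ← Groth.L20.ModStalk.germ_smul]
  refine (ConcreteCategory.congr_hom (Scheme.Modules.germ_restrictStalkNatIso_hom_app j y M (U := W') hy') _).trans ?_
  refine Eq.trans ?_ (congrArg _ (ConcreteCategory.congr_hom
    (Scheme.Modules.germ_restrictStalkNatIso_hom_app j y M (U := W') hy') _)).symm
  show M.presheaf.germ (j ''ᵁ W') (j y) _ ((j.appIso W').inv a • _) = _
  rw [ha, Groth.L20.ModStalk.germ_smul]
  congr 1
  exact TopCat.Presheaf.germ_res_apply X.presheaf (homOfLE hle) (j y) _ s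

/-- Reflexivity of a stalk does not change under restriction to an open subscheme. -/
theorem isReflexiveAt_restrict_iff (j : Y ⟶ X) [IsOpenImmersion j] (M : X.Modules) (y : Y) :
    RefHull.IsReflexiveAt (M.restrict j) y ↔ RefHull.IsReflexiveAt M (j y) := by
  let e := restrictStalkEquiv j M y
  have he : ∀ r v, e (r • v) = (stalkEquiv j y).symm r • e v := fun r v => by
    obtain ⟨r, rfl⟩ := (stalkEquiv j y).surjective r
    rw [RingEquiv.symm_apply_apply]
    exact restrictStalk_smul j M y r v
  refine ⟨fun h => ?_, fun h => ?_⟩
  · haveI : Module.IsReflexive (Y.presheaf.stalk y) ((M.restrict j).presheaf.stalk y) := h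
    exact isReflexive_of_semilinear (stalkEquiv j y).symm e he
  · haveI : Module.IsReflexive (X.presheaf.stalk (j y)) (M.presheaf.stalk (j y)) := h
    refine isReflexive_of_semilinear (stalkEquiv j y) e.symm fun r v => e.injective ?_
    rw [AddEquiv.apply_symm_apply, he, RingEquiv.symm_apply_apply, AddEquiv.apply_symm_apply]

/-- A morphism which is bijective on the stalks at a point preserves reflexivity there. -/
theorem isReflexiveAt_congr {M N : X.Modules} (φ : M ⟶ N) (x : X)
    (h : Function.Bijective (RefHull.stalkMapₗ φ x)) :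
    RefHull.IsReflexiveAt M x ↔ RefHull.IsReflexiveAt N x := by
  let e := LinearEquiv.ofBijective _ h
  refine ⟨fun hr => ?_, fun hr => ?_⟩
  · haveI : Module.IsReflexive (X.presheaf.stalk x) (M.presheaf.stalk x) := hr
    exact Module.equiv e
  · haveI : Module.IsReflexive (X.presheaf.stalk x) (N.presheaf.stalk x) := hr
    exact Module.equiv e.symm

end Groth.L07.RefExtend
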