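import Groth.Agent.S0291
import Groth.Agent.L06.FlatFibre
import Groth.Agent.L07.ParaF.Stalks
import Groth.Agent.L07.RefExtend.Stalk
import Groth.Agent.L15.Ref.FreeLocus

/-!
Modules supported on an open outside which the local rings have depth at least two.
-/

set_option autoImplicit false
set_option linter.style.haveILetI false
set_option backward.isDefEq.respectTransparency false
set_option backward.isDefEq.respectTransparency.types false

universe u

open CategoryTheory CategoryTheory.Limits AlgebraicGeometry TopologicalSpace Opposite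

noncomputable section

namespace Groth.L07.RefExtend

open Groth.L14.ParaF
open Groth.L21.Extend (SupportedOn)

variable {X : Scheme.{u}}

theorem bij_punct_of_depth (A : Type u) [CommRing A] [IsNoetherianRing A] [IsLocalRing A]
    (hdepth : (2 : ℕ∞) ≤ LocCoh.depth A A) :
    Bij (Coh.structureModule (Spec (CommRingCat.of A))) ⊤ (FEt.puncturedSpec A) := by
  haveI := Groth.Agent.S0291.result A A (fun m hm => ?_)
  · have he : Spec.map (CommRingCat.ofHom (algebraMap A A)) ⁻¹ᵁ FEt.puncturedSpec A = FEt.puncturedSpec A := by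
      rw [Algebra.algebraMap_self]
      erw [Spec.map_id]
      rfl
    have h2 := ConcreteCategory.bijective_of_isIso ((Spec (CommRingCat.of A)).presheaf.map (homOfLE (le_top :
      Spec.map (CommRingCat.ofHom (algebraMap A A)) ⁻¹ᵁ FEt.puncturedSpec A ≤ ⊤)).op)
    exact Bij.congr (M := Coh.structureModule (Spec (CommRingCat.of A))) ⟨le_top, h2⟩ rfl he
  · obtain rfl := IsLocalRing.eq_maximalIdeal hm
    have e : A ≃+* Localization.AtPrime (IsLocalRing.maximalIdeal A) :=
      (IsLocalization.atUnits A (IsLocalRing.maximalIdeal A).primeCompl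
        (fun a ha => IsLocalRing.notMem_maximalIdeal.1 ha)).toRingEquiv
    exact hdepth.trans (Groth.L06.FlatFibre.depth_eq_of_ringEquiv e).ge

theorem supportedOn_structureModule [IsLocallyNoetherian X] {U : X.Opens}
    (hU : ∀ x : ↥X, x ∉ U → (2 : ℕ∞) ≤ LocCoh.depth (X.presheaf.stalk x) (X.presheaf.stalk x)) :
    SupportedOn (Coh.structureModule X) U :=
  Groth.L07.ParaF.supportedOn_of_bij_punct fun y hy =>
    bij_punct_of_depth (X.presheaf.stalk y) (hU y hy)

section Hom

open Groth.L18.Frame (rs rs_rs rs_smul)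
open Groth.L16.HomSh (Sec ev ev_rs ev_smul)
open Groth.L15.Ref (toSec toSec_bijective secOf germ_secOf)

variable {M N : X.Modules}

theorem toSec_rs {V V' : X.Opens} (h : V' ≤ V) (g : Γ(RefHull.homSh M N, V)) {W : X.Opens} (hW : W ≤ V')
    (x : Γ(M, W)) : ev (toSec V' (rs (RefHull.homSh M N) h g)) hW x = ev (toSec V g) (hW.trans h) x :=
  Groth.L15.Ref.sec_ext fun y hy =>
    (germ_secOf (rs (RefHull.homSh M N) h g) hW x y hy).trans (germ_secOf g (hW.trans h) x y hy).symm

/-- The homomorphisms into a module supported on `U` are supported on `U`. -/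
theorem supportedOn_homSh (M : X.Modules) {N : X.Modules} {U : X.Opens} (h : SupportedOn N U) :
    SupportedOn (RefHull.homSh M N) U := by
  intro V
  let R : ∀ W : {W : X.Opens // W ≤ V}, Γ(N, W.1) ≃+ Γ(N, W.1 ⊓ U) := fun W =>
    AddEquiv.ofBijective (AddMonoidHom.mk' (rs N (inf_le_left : W.1 ⊓ U ≤ W.1)) fun a b => map_add _ a b) (h W.1)
  refine ⟨fun g g' hg => ?_, fun t => ?_⟩
  · apply (toSec_bijective V).1
    refine Groth.L16.HomSh.sec_ext fun W hW x => (h W).1 ?_
    show rs N inf_le_left _ = rs N inf_le_left _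
    rw [ev_rs, ev_rs, ← toSec_rs (inf_le_left : V ⊓ U ≤ V) g (inf_le_inf_right U hW),
      ← toSec_rs (inf_le_left : V ⊓ U ≤ V) g' (inf_le_inf_right U hW)]
    exact congrArg (fun s => ev (toSec (V ⊓ U) s) (inf_le_inf_right U hW) (rs M inf_le_left x)) hg
  · let ψ := toSec (V ⊓ U) t
    let φ₀ : ∀ W : {W : X.Opens // W ≤ V}, Γ(M, W.1) →+ Γ(N, W.1) := fun W =>
      (R W).symm.toAddMonoidHom.comp ((ev ψ (inf_le_inf_right U W.2)).comp
        (AddMonoidHom.mk' (rs M (inf_le_left : W.1 ⊓ U ≤ W.1)) fun a b => map_add _ a b))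
    have hφ : ∀ (W : {W : X.Opens // W ≤ V}) (x : Γ(M, W.1)),
        rs N (inf_le_left : W.1 ⊓ U ≤ W.1) (φ₀ W x) = ev ψ (inf_le_inf_right U W.2) (rs M inf_le_left x) :=
      fun W x => (R W).apply_symm_apply _
    let φ : Sec M N V := ⟨φ₀, fun W W' hW hW' x => (h W').1 (by
        show rs N _ (rs N hW' _) = rs N _ _
        rw [hφ ⟨W', hW'.trans hW⟩, rs_rs]
        refine (rs_rs N (inf_le_left : W ⊓ U ≤ W) (inf_le_inf_right U hW') _).symm.trans ?_
        rw [hφ ⟨W, hW⟩, ev_rs, rs_rs, rs_rs]),
      fun W hW a x => (h W).1 (by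
        show rs N _ _ = rs N _ (a • _)
        rw [hφ ⟨W, hW⟩, rs_smul, rs_smul, hφ ⟨W, hW⟩, ev_smul])⟩
    obtain ⟨g, hg⟩ := (toSec_bijective V).2 φ
    refine ⟨g, (toSec_bijective (V ⊓ U)).1 ?_⟩
    refine Groth.L16.HomSh.sec_ext fun W hW x => ?_
    rw [toSec_rs, hg]
    apply (h W).1
    show rs N inf_le_left (φ₀ ⟨W, hW.trans inf_le_left⟩ x) = rs N inf_le_left (ev ψ hW x)
    rw [hφ, ev_rs]

theorem supportedOn_ddual {U : X.Opens} (hO : SupportedOn (Coh.structureModule X) U) (F : X.Modules) :
    SupportedOn (RefHull.ddual F) U :=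
  supportedOn_homSh (RefHull.dual F) hO

end Hom

/-- A morphism of modules supported on `U` which is an isomorphism over `U` is an isomorphism. -/
theorem isIso_of_supportedOn {U : X.Opens} {M N : X.Modules} (hM : SupportedOn M U) (hN : SupportedOn N U)
    (f : M ⟶ N) (hf : ∀ V ≤ U, Function.Bijective (f.app V)) : IsIso f := by
  rw [Scheme.Modules.Hom.isIso_iff_isIso_app]
  intro V
  rw [ConcreteCategory.isIso_iff_bijective]
  refine (Function.Bijective.of_comp_iff' (hN V) _).mp ?_
  rw [show (fun s => Groth.L21.Extend.rs N (inf_le_left : V ⊓ U ≤ V) s) ∘ (f.app V) =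
    f.app (V ⊓ U) ∘ fun s => Groth.L21.Extend.rs M inf_le_left s from
    funext fun s => (Groth.L21.Extend.rs_app f inf_le_left s).symm]
  exact (hf _ inf_le_right).comp (hM V)

/-- The biduality map is bijective over the points with reflexive stalks. -/
theorem bidualMap_app_bijective [IsLocallyNoetherian X] {F : X.Modules} (hF : Coh.IsCoh F) {V : X.Opens}
    (h : ∀ x ∈ V, RefHull.IsReflexiveAt F x) : Function.Bijective ((RefHull.bidualMap F).app V) := by
  haveI := Groth.L15.Ref.isQCoh_structureModule (X := X)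
  refine Groth.L15.Ref.app_bijective_of_stalk _ fun x hx => ?_
  have h1 := (Groth.L15.Ref.bidualAt_bijective_iff hF x).2 (h x hx)
  rw [← Groth.L15.Ref.stalkMapₗ_bidual, LinearMap.coe_comp] at h1
  exact (Function.Bijective.of_comp_iff'
    (Groth.L15.Ref.evalStalk_bijective (RefHull.dual F) (Coh.structureModule X) (Groth.L15.Ref.isCoh_dual hF) x) _).1 h1

end Groth.L07.RefExtend

namespace Groth.L07.RefExtend

theorem stalkMapₗ_bijective_of_isIso {X : Scheme.{u}} {M N : X.Modules} (φ : M ⟶ N) [IsIso φ] (x : X) :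
    Function.Bijective (RefHull.stalkMapₗ φ x) :=
  (Groth.L21.Mod.isIso_iff_stalk_bijective φ).1 inferInstance x

end Groth.L07.RefExtend
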