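import Groth.Agent.L07.RefExtend.Basic
import Groth.Agent.L29.DCoh.RHomCoh
import Groth.Agent.L29.DCoh.ExtendOpen

/-!
Coherence of modules supported on an open where they are coherent with reflexive stalks.
-/

set_option autoImplicit false
set_option linter.style.haveILetI false

universe u

open CategoryTheory CategoryTheory.Limits AlgebraicGeometry TopologicalSpace Opposite

noncomputable section

namespace Groth.L07.RefExtend

theorem isReflexiveAt_iff_of_isIso_map {X Y : Scheme.{u}} (j : Y ⟶ X) [IsOpenImmersion j] {K M : X.Modules}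
    (ι : K ⟶ M) [IsIso ((Scheme.Modules.restrictFunctor j).map ι)] (z : Y) :
    RefHull.IsReflexiveAt K (j z) ↔ RefHull.IsReflexiveAt M (j z) := by
  have h1 := isReflexiveAt_restrict_iff j K z
  have h2 := isReflexiveAt_restrict_iff j M z
  have hb : Function.Bijective (RefHull.stalkMapₗ (F := K.restrict j) (G := M.restrict j) ((Scheme.Modules.restrictFunctor j).map ι) z) :=
    stalkMapₗ_bijective_of_isIso _ z
  have h3 := isReflexiveAt_congr _ z hb
  exact (h1.symm.trans h3).trans h2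

theorem isIso_map_of_bijective {X Y : Scheme.{u}} (j : Y ⟶ X) [IsOpenImmersion j] {K M : X.Modules} (f : K ⟶ M)
    (h : ∀ W : Y.Opens, Function.Bijective (f.app (j ''ᵁ W))) :
    IsIso ((Scheme.Modules.restrictFunctor j).map f) := by
  rw [Scheme.Modules.Hom.isIso_iff_isIso_app]
  intro W
  rw [ConcreteCategory.isIso_iff_bijective]
  exact h W

theorem isIso_map_bidualMap {X : Scheme.{u}} [IsLocallyNoetherian X] (U : X.Opens) {K : X.Modules}
    (hK : Coh.IsCoh K) (h : ∀ y ∈ U, RefHull.IsReflexiveAt K y) :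
    IsIso ((Scheme.Modules.restrictFunctor U.ι).map (RefHull.bidualMap K)) :=
  isIso_map_of_bijective U.ι _ fun W => bidualMap_app_bijective hK fun y hy => h y (U.ι_image_le W hy)

theorem iso_of_supportedOn {X : Scheme.{u}} (U : X.Opens) {K M D : X.Modules} (ι : K ⟶ M) (η : K ⟶ D)
    [IsIso ((Scheme.Modules.restrictFunctor U.ι).map ι)] [IsIso ((Scheme.Modules.restrictFunctor U.ι).map η)]
    (hM : Groth.L21.Extend.SupportedOn M U) (hD : Groth.L21.Extend.SupportedOn D U) : Nonempty (D ≅ M) := by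
  haveI := Groth.L14.ParaF.isIso_unit U.ι (M := M) (by rwa [Scheme.Opens.opensRange_ι])
  haveI := Groth.L14.ParaF.isIso_unit U.ι (M := D) (by rwa [Scheme.Opens.opensRange_ι])
  exact ⟨asIso ((Scheme.Modules.restrictAdjunction U.ι).unit.app D) ≪≫
    (Scheme.Modules.pushforward U.ι).mapIso
      ((asIso ((Scheme.Modules.restrictFunctor U.ι).map η)).symm ≪≫
        asIso ((Scheme.Modules.restrictFunctor U.ι).map ι)) ≪≫
    (asIso ((Scheme.Modules.restrictAdjunction U.ι).unit.app M)).symm⟩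

theorem isCoh_of_supportedOn {X : Scheme.{u}} [IsNoetherian X] (U : X.Opens) (M : X.Modules) [Coh.IsQCoh M]
    (hO : Groth.L21.Extend.SupportedOn (Coh.structureModule X) U) (hM : Groth.L21.Extend.SupportedOn M U)
    (hc : Coh.IsCoh (M.restrict U.ι)) (href : ∀ y ∈ U, RefHull.IsReflexiveAt M y) : Coh.IsCoh M := by
  obtain ⟨P, a, hP, hepi⟩ := Groth.L29.DC.ExtendOpen.exists_coh_extension U M hc
  have hK : Coh.IsCoh (Abelian.image a) := Groth.L16.CohSupport.isCoh_image hP a
  haveI : Mono ((Scheme.Modules.restrictFunctor U.ι).map (Abelian.image.ι a)) :=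
    (Scheme.Modules.restrictFunctor U.ι).map_mono _
  haveI : Epi ((Scheme.Modules.restrictFunctor U.ι).map (Abelian.image.ι a)) := by
    haveI := hepi
    refine epi_of_epi_fac (f := (Scheme.Modules.restrictFunctor U.ι).map (Abelian.factorThruImage a))
      (h := (Scheme.Modules.restrictFunctor U.ι).map a) ?_
    rw [← Functor.map_comp, Abelian.image.fac]
  haveI : IsIso ((Scheme.Modules.restrictFunctor U.ι).map (Abelian.image.ι a)) := isIso_of_mono_of_epi _
  haveI := isIso_map_bidualMap U hK fun y hy =>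
    (isReflexiveAt_iff_of_isIso_map U.ι (Abelian.image.ι a) ⟨y, hy⟩).2 (href y hy)
  obtain ⟨e⟩ := iso_of_supportedOn U (Abelian.image.ι a) (RefHull.bidualMap (Abelian.image a)) hM
    (supportedOn_ddual hO _)
  exact Groth.L16.CohSupport.isCoh_of_iso e (Groth.L15.Ref.isCoh_dual (Groth.L15.Ref.isCoh_dual hK))

theorem isCoh_restrict_restrict {X : Scheme.{u}} [IsLocallyNoetherian X] (U V : X.Opens) (M : X.Modules)
    (hM : Coh.IsCoh (M.restrict U.ι)) : Coh.IsCoh ((M.restrict V.ι).restrict (V.ι ⁻¹ᵁ U).ι) := by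
  let U' := V.ι ⁻¹ᵁ U
  have hrange : Set.range (U'.ι ≫ V.ι) ⊆ Set.range U.ι := by
    rintro _ ⟨⟨y, hy⟩, rfl⟩
    exact ⟨⟨V.ι y, hy⟩, rfl⟩
  have hfac := IsOpenImmersion.lift_fac U.ι (U'.ι ≫ V.ι) hrange
  revert hfac
  generalize IsOpenImmersion.lift U.ι (U'.ι ≫ V.ι) hrange = h
  intro hfac
  haveI : IsOpenImmersion h := by
    haveI : IsOpenImmersion (h ≫ U.ι) := hfac ▸ inferInstance
    exact IsOpenImmersion.of_comp h U.ι
  exact Groth.L16.CohSupport.isCoh_of_iso
    (((Scheme.Modules.restrictFunctorComp h U.ι).app M).symm ≪≫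
      (Scheme.Modules.restrictFunctorCongr hfac).app M ≪≫
      (Scheme.Modules.restrictFunctorComp U'.ι V.ι).app M)
    (Groth.L29.DC.RHomC.isCoh_restrict h hM)

theorem isCoh_push {X : Scheme.{u}} [IsLocallyNoetherian X] (U : X.Opens) (M : X.Modules) [Coh.IsQCoh M]
    (hM : Groth.L21.Extend.SupportedOn M U)
    (hOV : ∀ V : X.Opens, IsAffineOpen V →
      Groth.L21.Extend.SupportedOn (Coh.structureModule (V : Scheme.{u})) (V.ι ⁻¹ᵁ U))
    (hc : Coh.IsCoh (M.restrict U.ι)) (href : ∀ y ∈ U, RefHull.IsReflexiveAt M y) : Coh.IsCoh M := by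
  refine Groth.L29.DC.RHomC.isCoh_of_cover fun x => ?_
  obtain ⟨V, hV, hxV, -⟩ := exists_isAffineOpen_mem_and_subset (x := x) (U := ⊤) trivial
  refine ⟨V, hxV, ?_⟩
  haveI : IsAffine (V : Scheme.{u}) := hV
  haveI : IsNoetherian (V : Scheme.{u}) := { }
  exact isCoh_of_supportedOn (V.ι ⁻¹ᵁ U) (M.restrict V.ι) (hOV V hV)
    (Groth.L14.ParaF.supportedOn_restrict V.ι hM) (isCoh_restrict_restrict U V M hc)
    fun y hy => (isReflexiveAt_restrict_iff V.ι M y).2 (href _ hy)

end Groth.L07.RefExtend
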